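import Groth.Agent.AdjLin.K415.MultSec
import Groth.Agent.AdjLin.K801.BasePt
import Groth.Agent.AdjLin.K801.GGen
import Groth.Agent.CurvesB.HZero
import Groth.Agent.Vanish.K909.KodDual

/-!
# Global generation and the vanishing of `H¹(M ⊗ I_x)`
-/

set_option autoImplicit false
universe u
open CategoryTheory CategoryTheory.Limits AlgebraicGeometry TopologicalSpace Opposite

namespace K415.GGVan

open Groth.Agent Groth.Agent.Fdesc.LocGen

variable {X : Scheme.{u}}

/-- A morphism out of a globally generated module which kills the global sections vanishes. -/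
theorem eq_zero_of_gg {M N : X.Modules} (h : Curv2.IsGloballyGenerated M) (g : M ⟶ N)
    (hg : ∀ s : Γ(M, ⊤), g.app ⊤ s = 0) : g = 0 := by
  obtain ⟨ι, p, hp⟩ := h
  let F : X.Modules := SheafOfModules.free (R := X.ringCatSheaf) ι
  have h1 : (p : F ⟶ M) ≫ g = 0 := by
    apply (SheafOfModules.freeHomEquiv (R := X.ringCatSheaf) N).injective
    have h2 : ∀ s t : SheafOfModules.sections (R := X.ringCatSheaf) N, s.val (op ⊤) = t.val (op ⊤) → s = t := by
      intro s t hst
      refine Subtype.ext (funext fun U => ?_)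
      have h3 := s.property (homOfLE (le_top : U.unop ≤ ⊤)).op
      have h4 := t.property (homOfLE (le_top : U.unop ≤ ⊤)).op
      exact h3.symm.trans ((congrArg _ hst).trans h4)
    funext i
    refine h2 _ _ ?_
    exact (hg _).trans rfl
  have hp' : Epi (p : F ⟶ M) := hp
  have h5 : (p : F ⟶ M) ≫ g = (p : F ⟶ M) ≫ 0 := by rw [h1, comp_zero]
  exact (cancel_epi (p : F ⟶ M)).1 h5

variable (k : Type u) [Field k] [X.Over (Spec (CommRingCat.of k))]

/-- If `M` is globally generated and `H¹(M) = 0`, then `H¹(M ⊗ I) = 0` for the ideal `I` of a finite closed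
subscheme with `h⁰ = 1`. -/
theorem van_of_gg (J : X.IdealSheafData) [IsFinite (J.subschemeι ≫ (X ↘ Spec (CommRingCat.of k)))]
    (h1 : Module.finrank k (Coh.HH X (ClSub.quotMod J) 0) = 1) {E : X.Modules} (hE : PicF.IsInvertible E)
    (hgg : Curv2.IsGloballyGenerated E) (hv : Subsingleton (Coh.HH X E 1)) :
    Subsingleton (Coh.HH X (CohB1.tensorMod E (ClSub.idealMod J)) 1) := by
  have hb : VarietyB.TensCoh.HasBases E :=
    VarietyB.TensCoh.HasBases.of_isFinLocFreeOfRank (Ega2.QCohLocal.isFinLocFreeOfRank_one_iff.mpr hE)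
  have hS := VarietyB.RestrSeq.restrSeq_shortExact hb J
  set S := VarietyB.RestrSeq.restrSeq hb J with hSdef
  have h2 : Module.finrank k (Coh.HH X S.X₃ 0) = 1 := by
    rw [← h1]
    exact MultSec.h0_restrict k J hE
  have hsurj : Function.Surjective ((K882.Coho.HF k 0).map S.g).hom := by
    have h3 : Module.finrank k ((K882.Coho.HF k 0).obj S.X₃) = 1 := h2
    have hne : ((K882.Coho.HF k 0).map S.g).hom ≠ 0 := by
      intro h0
      have hg0 : S.g = 0 := eq_zero_of_gg (M := S.X₂) hgg S.g fun s => by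
        have h4 := CurvesB.HZero.equivAdd_map S.g ((CurvesB.HZero.equivAdd S.X₂).symm s)
        rw [AddEquiv.apply_symm_apply] at h4
        rw [← h4]
        have h7 : ((K882.Coho.HF k 0).map S.g).hom ((CurvesB.HZero.equivAdd S.X₂).symm s) = 0 := by
          rw [h0]
          rfl
        exact (congrArg (CurvesB.HZero.equivAdd S.X₃) h7).trans (map_zero _)
      have hg := hS.epi_g
      have hz : IsZero S.X₃ := by
        rw [IsZero.iff_id_eq_zero, ← cancel_epi S.g, hg0, zero_comp, zero_comp]
      have h5 := K882.Coho.van_zeroMod hz 0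
      have h6 : Subsingleton (Coh.HH X S.X₃ 0) := h5
      rw [Module.finrank_zero_of_subsingleton] at h2
      exact zero_ne_one h2
    exact surjective_of_nonzero_of_finrank_eq_one h3 hne
  refine ⟨fun x y => ?_⟩
  have key : ∀ z : Coh.HH X (CohB1.tensorMod E (ClSub.idealMod J)) 1, z = 0 := by
    intro z
    obtain ⟨y, hy⟩ := FormalB.HHLin.exact₁ hS 0 z (hv.elim _ _)
    obtain ⟨w, hw⟩ := hsurj y
    have h3 := FormalB.HHLin.hd_hm_g hS 0 w
    have h4 : FormalB.HHLin.hm S.g 0 w = y := hw
    rw [h4, hy] at h3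
    exact h3
  rw [key x, key y]

omit [X.Over (Spec (CommRingCat.of k))] in
open Dix.PointIdeal in
/-- If `H¹(E ⊗ I_x) = 0` for all closed points, `E` is globally generated. -/
theorem gg_of_van [CompactSpace X] {E : X.Modules} (hE : PicF.IsInvertible E)
    (h : ∀ (x : X) (hx : IsClosed ({x} : Set X)), Subsingleton (Coh.HH X (CohB1.tensorMod E
      (ClSub.idealMod (Scheme.IdealSheafData.vanishingIdeal ⟨({x} : Set X), hx⟩))) 1)) :
    Curv2.IsGloballyGenerated E := by
  refine K801.GGen.isGloballyGenerated_of_closed fun x hx => ?_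
  obtain ⟨U, e, hxU, he⟩ := (isInvertible_iff E).1 hE x
  have hv : K882.Coho.Van (CohB1.tensorMod (ClSub.idealMod (pt x hx)) E) 1 :=
    K882.Coho.van_iso ⟨Ega2.Tens.swap _ _⟩ 1 (h x hx)
  obtain ⟨s, a, hs, ha⟩ := K801.BasePt.exists_section_of_support (pt x hx) hE hv (U := U) (fun y hy => by
    rw [(mem_support_pt x hx y).1 hy]
    exact hxU) he
  refine ⟨homOf s, ?_⟩
  have h2 := genLocus_inf_eq (homOf s) he (a := a) (by rw [sec_homOf]; exact hs)
  have h4 : x ∈ X.basicOpen a := by
    obtain ⟨z, hz⟩ : x ∈ Set.range (pt x hx).subschemeι := by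
      rw [Scheme.IdealSheafData.range_subschemeι]
      exact (mem_support_pt x hx x).2 rfl
    have h5 : (pt x hx).subschemeι.app U a = 1 := by
      rw [map_sub, map_one, sub_eq_zero] at ha
      exact ha
    have h6 : z ∈ (pt x hx).subscheme.basicOpen ((pt x hx).subschemeι.app U a) := by
      rw [h5, Scheme.basicOpen_of_isUnit _ isUnit_one]
      change (pt x hx).subschemeι z ∈ U
      rw [hz]
      exact hxU
    rw [← Scheme.preimage_basicOpen] at h6
    rw [← hz]
    exact h6
  rw [← h2] at h4
  exact h4.1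

open Divis.CartierBasic Divis.CartierStalk Dix.PointIdeal in
/-- The ideal of a closed point: finite closed subscheme with `h⁰ = 1`. -/
theorem pt_facts [IsAlgClosed k] [IsProper (X ↘ Spec (CommRingCat.of k))] (x : X) (hx : IsClosed ({x} : Set X)) :
    ∃ _ : IsFinite ((pt x hx).subschemeι ≫ (X ↘ Spec (CommRingCat.of k))),
      Module.finrank k (Coh.HH X (ClSub.quotMod (pt x hx)) 0) = 1 := by
  have hfin : IsFinite ((pt x hx).subschemeι ≫ (X ↘ Spec (CommRingCat.of k))) := by
    refine Sga4h.H923.DevGeo.isFinite_of_finite _ ?_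
    refine Set.Finite.of_finite_image (f := (pt x hx).subschemeι) ((Set.finite_singleton x).subset ?_)
      (pt x hx).subschemeι.isEmbedding.injective.injOn
    rintro _ ⟨z, -, rfl⟩
    exact (mem_support_pt x hx _).1 (subschemeι_mem_support _ z)
  refine ⟨hfin, ?_⟩
  rw [Sga5.H844.FinLen.finrank_quotMod_eq, finsum_eq_single _ x]
  · rw [stalkIdeal_pt]
    have : IsSimpleModule (X.presheaf.stalk x) (X.presheaf.stalk x ⧸ IsLocalRing.maximalIdeal (X.presheaf.stalk x)) := by
      rw [isSimpleModule_iff_isCoatom]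
      exact Ideal.isMaximal_def.mp inferInstance
    rw [Module.length_eq_one]
    rfl
  · intro y hy
    have h6 : Subsingleton (X.presheaf.stalk y ⧸ stalkIdeal (pt x hx) y) := by
      have h7 : stalkIdeal (pt x hx) y = ⊤ := by
        rw [← notMem_support_iff_stalkIdeal_eq_top]
        exact fun h => hy ((mem_support_pt x hx y).1 h)
      rw [h7]
      exact Ideal.Quotient.subsingleton_iff.2 rfl
    simp only [Module.length_eq_zero, ENat.toNat_zero]

/-- Global generation of an invertible module with `H¹ = 0` in terms of closed points. -/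
theorem gg_iff [IsAlgClosed k] [IsProper (X ↘ Spec (CommRingCat.of k))] {E : X.Modules} (hE : PicF.IsInvertible E)
    (hv : Subsingleton (Coh.HH X E 1)) :
    Curv2.IsGloballyGenerated E ↔
      ∀ (x : X) (hx : IsClosed ({x} : Set X)), Subsingleton (Coh.HH X (CohB1.tensorMod E
        (ClSub.idealMod (Scheme.IdealSheafData.vanishingIdeal ⟨({x} : Set X), hx⟩))) 1) := by
  have := VarietyA.TwistExist.isNoetherian k X
  refine ⟨fun h x hx => ?_, fun h => gg_of_van hE h⟩
  obtain ⟨_, h1⟩ := pt_facts (X := X) k x hx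
  exact van_of_gg k _ h1 hE h hv

end K415.GGVan
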