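import Groth.Agent.PosLin.K931.ChiAsym
import Groth.Agent.Sga5.H844.FinLen
import Groth.Agent.W4c2seshadripos.K850.JetStalk
import Groth.Agent.W4c2seshadripos.K850.IdealTwist
import Groth.Agent.S0051
import Groth.Agent.S0235
import Groth.Agent.S8163
import Groth.Agent.Sga4h.H923.DevGeo
import Groth.Agent.Lefpen.H705.ClosedPoint
import Groth.Agent.Fga.DimCut
import Groth.Agent.VarietyB.RestrSeq
import Groth.Agent.HodgeNum.K882.Coho
import Groth.Agent.PicF.K246.Basic

/-!
# Sections of high multiplicity at finitely many points of a surface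
-/

set_option autoImplicit false
universe u
open CategoryTheory CategoryTheory.Limits AlgebraicGeometry TopologicalSpace

namespace K415.MultSec

open Groth.Agent Groth.Agent.Divis.CartierBasic Groth.Agent.Divis.CartierStalk

section Prod

variable {X : Scheme.{u}} {ι : Type*}

theorem stalkIdeal_prod (s : Finset ι) (D : ι → X.IdealSheafData) (x : X) :
    stalkIdeal (∏ i ∈ s, D i) x = ∏ i ∈ s, stalkIdeal (D i) x := by
  classical
  induction s using Finset.induction_on with
  | empty =>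
    rw [Finset.prod_empty, Finset.prod_empty, Ideal.one_eq_top, Scheme.IdealSheafData.one_eq_top, stalkIdeal_top]
  | insert i s hi ih => rw [Finset.prod_insert hi, Finset.prod_insert hi, stalkIdeal_mul, ih]

theorem prod_le_iInf [Fintype ι] (D : ι → X.IdealSheafData) : ∏ i, D i ≤ ⨅ i, D i := by
  classical
  refine le_iInf fun i => ?_
  rw [← Finset.mul_prod_erase _ _ (Finset.mem_univ i)]
  intro U
  exact Ideal.mul_le_left (I := (D i).ideal U) (J := (∏ j ∈ Finset.univ.erase i, D j).ideal U)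

end Prod

section Finite

/-- An invertible module on a finite scheme over a field is trivial. -/
theorem nonempty_iso_of_finite {k : Type u} [Field k] {Z : Scheme.{u}} (g : Z ⟶ Spec (CommRingCat.of k)) [IsFinite g]
    {E : Z.Modules} (hE : PicF.IsInvertible E) : Nonempty (E ≅ Coh.structureModule Z) := by
  obtain ⟨y⟩ : Nonempty (Spec (CommRingCat.of k)) := inferInstance
  obtain ⟨V, hy, ⟨e⟩⟩ := S0235.result g E hE y
  have hV : V = ⊤ := by
    ext z
    have : z = y := Subsingleton.elim (α := PrimeSpectrum k) z y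
    rw [this]
    exact ⟨fun _ => trivial, fun _ => hy⟩
  subst hV
  have h1 := (Fdesc.LocGen.isGen_one (X := ((g ⁻¹ᵁ ⊤ : Z.Opens) : Scheme.{u})) ⊤).app e.inv
  have h2 := (Fdesc.LocGen.isGen_toRestrict_iff (M := E) (g ⁻¹ᵁ ⊤ : Z.Opens).ι
    ((Fdesc.LocGen.toRestrict _).symm (e.inv.app ⊤ (Fdesc.LocGen.one ⊤)))).mp h1
  have h3 : (⊤ : Z.Opens) ≤ (g ⁻¹ᵁ ⊤ : Z.Opens).ι ''ᵁ ⊤ := by
    rw [Scheme.Opens.ι_image_top]
    exact le_top
  obtain ⟨i⟩ := K246.Basic.nonempty_iso_of_isGen_top (h2.res h3)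
  exact ⟨i⟩

variable (k : Type u) [Field k] {X : Scheme.{u}} [X.Over (Spec (CommRingCat.of k))]

/-- `h⁰` of the restriction of an invertible module to a finite closed subscheme. -/
theorem h0_restrict (J : X.IdealSheafData) [IsFinite (J.subschemeι ≫ (X ↘ Spec (CommRingCat.of k)))]
    {E : X.Modules} (hE : PicF.IsInvertible E) :
    Module.finrank k (Coh.HH X ((Scheme.Modules.pushforward J.subschemeι).obj
      ((Scheme.Modules.pullback J.subschemeι).obj E)) 0) = Module.finrank k (Coh.HH X (ClSub.quotMod J) 0) := by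
  obtain ⟨e⟩ := nonempty_iso_of_finite (J.subschemeι ≫ (X ↘ Spec (CommRingCat.of k)))
    (Fdesc.LocGen.isInvertible_pullback J.subschemeι hE)
  exact K882.Coho.hd_iso ⟨(Scheme.Modules.pushforward J.subschemeι).mapIso e⟩ 0

/-- The basic inequality `h⁰(E) ≤ h⁰(E ⊗ J) + h⁰(O/J)`. -/
theorem h0_le [IsProper (X ↘ Spec (CommRingCat.of k))] (J : X.IdealSheafData)
    [IsFinite (J.subschemeι ≫ (X ↘ Spec (CommRingCat.of k)))] {E : X.Modules} (hE : PicF.IsInvertible E) :
    Module.finrank k (Coh.HH X E 0) ≤ Module.finrank k (Coh.HH X (CohB1.tensorMod E (ClSub.idealMod J)) 0) +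
      Module.finrank k (Coh.HH X (ClSub.quotMod J) 0) := by
  have hN : IsNoetherian X := VarietyA.TwistExist.isNoetherian k X
  rw [← h0_restrict k J hE]
  have hb : VarietyB.TensCoh.HasBases E :=
    VarietyB.TensCoh.HasBases.of_isFinLocFreeOfRank (Ega2.QCohLocal.isFinLocFreeOfRank_one_iff.mpr hE)
  obtain ⟨e⟩ := nonempty_iso_of_finite (J.subschemeι ≫ (X ↘ Spec (CommRingCat.of k)))
    (Fdesc.LocGen.isInvertible_pullback J.subschemeι hE)
  refine K931.HQ.hh_mid k (VarietyB.RestrSeq.restrSeq hb J) (VarietyB.RestrSeq.restrSeq_shortExact hb J) ?_ ?_ ?_ 0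
  · exact K910.HZ.isCoh_tensor hE (VarietyB.DegCartier.isCoh_idealMod J)
  · exact Fga.HodgeSec.isCoh_of_isInvertible hE
  · exact PerfA.CohSerre.isCoh_of_iso ((Scheme.Modules.pushforward J.subschemeι).mapIso e.symm)
      (CycB.ClosSheaf.isCoh_push_structureModule J.subschemeι)

end Finite

section Count

variable {k : Type u} [Field k] {X : Scheme.{u}}

/-- the product of the `N`-th powers of the ideals of the points of `Z` -/
noncomputable def fat (Z : Finset X) (hZ : ∀ z ∈ Z, IsClosed ({z} : Set X)) (N : ℕ) : X.IdealSheafData :=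
  ∏ z : ↥Z, (W4c2seshadripos.pointIdeal (z : X) (hZ z z.2)) ^ N

variable (Z : Finset X) (hZ : ∀ z ∈ Z, IsClosed ({z} : Set X)) (N : ℕ)

theorem stalkIdeal_pow_of_ne {z x : X} (hz : IsClosed ({z} : Set X)) (h : x ≠ z) :
    stalkIdeal ((W4c2seshadripos.pointIdeal z hz) ^ N) x = ⊤ := by
  rw [← notMem_support_iff_stalkIdeal_eq_top]
  intro hx
  exact h (K850.IdealTwist.support_pointIdeal_pow_subset z hz N hx)

theorem stalkIdeal_fat_of_mem {x : X} (hx : x ∈ Z) :
    stalkIdeal (fat Z hZ N) x = IsLocalRing.maximalIdeal (X.presheaf.stalk x) ^ N := by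
  classical
  rw [fat, stalkIdeal_prod, Finset.prod_eq_single (⟨x, hx⟩ : ↥Z)]
  · exact K850.JetStalk.stalkIdeal_pointIdeal_pow x _ N
  · intro z _ hz
    rw [stalkIdeal_pow_of_ne N _ (fun h => hz (Subtype.ext h.symm)), Ideal.one_eq_top]
  · exact fun h => absurd (Finset.mem_univ _) h

theorem stalkIdeal_fat_of_notMem {x : X} (hx : x ∉ Z) : stalkIdeal (fat Z hZ N) x = ⊤ := by
  classical
  rw [fat, stalkIdeal_prod, Finset.prod_eq_one, Ideal.one_eq_top]
  intro z _
  rw [stalkIdeal_pow_of_ne N _ (fun h => hx (by rw [h]; exact z.2)), Ideal.one_eq_top]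

theorem support_fat : ((fat Z hZ N).support : Set X) ⊆ Z := by
  intro x hx
  by_contra h
  exact (notMem_support_iff_stalkIdeal_eq_top _ x).mpr (stalkIdeal_fat_of_notMem Z hZ N h) hx

variable [X.Over (Spec (CommRingCat.of k))]

theorem isFinite_fat [IsProper (X ↘ Spec (CommRingCat.of k))] :
    IsFinite ((fat Z hZ N).subschemeι ≫ (X ↘ Spec (CommRingCat.of k))) := by
  refine Sga4h.H923.DevGeo.isFinite_of_finite _ ?_
  refine Set.Finite.of_finite_image (f := (fat Z hZ N).subschemeι) (Z.finite_toSet.subset ?_)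
    (fat Z hZ N).subschemeι.isEmbedding.injective.injOn
  rintro _ ⟨z, -, rfl⟩
  exact support_fat Z hZ N (Divis.CartierStalk.subschemeι_mem_support _ z)

/-- The number of conditions imposed by multiplicity `N` at the points of `Z`, on a smooth surface. -/
theorem h0_fat [IsAlgClosed k] [IsProper (X ↘ Spec (CommRingCat.of k))] [Smooth (X ↘ Spec (CommRingCat.of k))]
    [IrreducibleSpace X] (hdim : topologicalKrullDim X = 2) (hN : 1 ≤ N) :
    Module.finrank k (Coh.HH X (ClSub.quotMod (fat Z hZ N)) 0) = Z.card * (N + 1).choose 2 := by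
  classical
  have := isFinite_fat (k := k) Z hZ N
  rw [Sga5.H844.FinLen.finrank_quotMod_eq, finsum_eq_sum_of_support_subset (s := Z)]
  · have h1 : ∀ z ∈ Z, (Module.length (X.presheaf.stalk z) (X.presheaf.stalk z ⧸
        stalkIdeal (fat Z hZ N) z)).toNat = (N + 1).choose 2 := by
      intro z hz
      have hreg := Lefpen.H705.ClosedPoint.isRegularLocalRing_stalk (X ↘ Spec (CommRingCat.of k)) z
      have hd : ringKrullDim (X.presheaf.stalk z) = (2 : ℕ) := by
        rw [Fga.DimCut.ringKrullDim_stalk_eq k X z (hZ z hz), hdim]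
        rfl
      rw [stalkIdeal_fat_of_mem Z hZ N hz, S8163.result _ 2 hd N hN]
      rfl
    rw [Finset.sum_congr rfl h1, Finset.sum_const, smul_eq_mul]
  · intro x hx
    by_contra h
    apply hx
    have h6 : Subsingleton (X.presheaf.stalk x ⧸ stalkIdeal (fat Z hZ N) x) := by
      rw [stalkIdeal_fat_of_notMem Z hZ N h]
      exact Ideal.Quotient.subsingleton_iff.2 rfl
    simp only [Module.length_eq_zero, ENat.toNat_zero]

omit [X.Over (Spec (CommRingCat.of k))] in
theorem fat_le : fat Z hZ N ≤ ⨅ z : ↥Z, (W4c2seshadripos.pointIdeal (z : X) (hZ z z.2)) ^ N :=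
  prod_le_iInf _

omit [X.Over (Spec (CommRingCat.of k))] in
theorem inv_of_inverse {L Linv : X.Modules} (h : ClSub.IsInverseOf Linv L) : PicF.IsInvertible Linv := by
  obtain ⟨e⟩ := h
  exact Fga.IntAdd.isInvertible_of_tensor (Ega2.Tens.swap _ _ ≪≫ e)

theorem nontrivial_of_fat [IsProper (X ↘ Spec (CommRingCat.of k))] {E : X.Modules} (hE : PicF.IsInvertible E)
    (h : Module.finrank k (Coh.HH X (CohB1.tensorMod E (ClSub.idealMod (fat Z hZ N))) 0) ≠ 0) :
    Nontrivial (Coh.HH X (CohB1.tensorMod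
      (ClSub.idealMod (⨅ z : ↥Z, (W4c2seshadripos.pointIdeal (z : X) (hZ z z.2)) ^ N)) E) 0) := by
  rw [← not_subsingleton_iff_nontrivial]
  intro hs
  have h1 := K882.Coho.van₁_zero (K850.IdealTwist.twSeq_shortExact (fat_le Z hZ N) hE) hs
  have h2 : K882.Coho.Van (CohB1.tensorMod E (ClSub.idealMod (fat Z hZ N))) 0 :=
    K882.Coho.van_iso ⟨Ega2.Tens.swap _ _⟩ 0 h1
  apply h
  have : Subsingleton (Coh.HH X (CohB1.tensorMod E (ClSub.idealMod (fat Z hZ N))) 0) := h2
  exact Module.finrank_zero_of_subsingleton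

open Fga.PicMon K931.HQ K909.InterML in
/-- Sections of `L^m` of multiplicity `2m+1` at the points of `Z`, if `(L²) > 4 #Z`. -/
theorem main [IsAlgClosed k] [IsProper (X ↘ Spec (CommRingCat.of k))] [Smooth (X ↘ Spec (CommRingCat.of k))]
    [IrreducibleSpace X] (hdim : topologicalKrullDim X = 2) {L : X.Modules} (hL : CohB1.IsAmple L)
    (hsq : 4 * (Z.card : ℤ) < inter k X 2 (Coh.structureModule X) (fun _ : Fin 2 => Grpsch.PicGrp.mk L hL.1)) :
    ∃ m₀ : ℕ, ∀ m : ℕ, m₀ ≤ m →
      Module.finrank k (Coh.HH X (CohB1.tensorMod (CohB1.tensorPow L m)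
        (ClSub.idealMod (fat Z hZ (2 * m + 1)))) 0) ≠ 0 := by
  have hN : IsNoetherian X := VarietyA.TwistExist.isNoetherian k X
  have hO : Coh.IsCoh (Coh.structureModule X) := Fga.HodgeSec.isCoh_of_isInvertible Fdesc.LocGen.isInvertible_structureModule
  have hle : topologicalKrullDim X ≤ (2 : ℕ) := hdim.le
  have hsupp : topologicalKrullDim (CohB1.support (Coh.structureModule X)) ≤ (2 : ℕ) :=
    (Topology.IsInducing.subtypeVal.topologicalKrullDim_le).trans hle
  set e := inter k X 2 (Coh.structureModule X) (fun _ : Fin 2 => Grpsch.PicGrp.mk L hL.1) with he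
  obtain ⟨C, hC⟩ := K931.ChiAsym.asym k X 2 hL.1 hle hO hsupp
  obtain ⟨n₀, hn₀⟩ := (S0051.result k X (X ↘ Spec (CommRingCat.of k)) L hL.1).mp hL _ hO
  refine ⟨n₀ + (8 * Z.card + 2 * C + 1), fun m hm h0 => ?_⟩
  have := isFinite_fat (k := k) Z hZ (2 * m + 1)
  have h1 := h0_le k (fat Z hZ (2 * m + 1)) (Fdesc.LocGen.isInvertible_tensorPow hL.1 m)
  rw [h0, h0_fat Z hZ _ hdim (by omega), zero_add] at h1
  have h2 := hC m
  have h3 : mc L ^ m * mc (Coh.structureModule X) = mc (CohB1.tensorMod (Coh.structureModule X) (CohB1.tensorPow L m)) := by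
    rw [mc_tensor, mc_tensorPow, mul_comm]
  have h4 : ∀ i, 0 < i → HQ k X i (mc L ^ m * mc (Coh.structureModule X)) = 0 := by
    intro i hi
    have := hn₀ m (by omega) i hi
    rw [h3, HQ_mc, hh_def]
    exact Module.finrank_zero_of_subsingleton
  have h5 : HQ k X 0 (mc L ^ m * mc (Coh.structureModule X)) = Module.finrank k (Coh.HH X (CohB1.tensorPow L m) 0) := by
    rw [mc_one, mul_one, ← mc_tensorPow, HQ_mc, hh_def]
  beta_reduce at h2
  rw [Finset.sum_range_succ, Finset.sum_range_succ, Finset.sum_range_succ, Finset.sum_range_zero, h4 1 one_pos,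
    h4 2 two_pos, h5] at h2
  have h6 : (2 * m + 1 + 1).choose 2 = (m + 1) * (2 * m + 1) := by
    rw [Nat.choose_two_right]
    have : (2 * m + 1 + 1) * (2 * m + 1 + 1 - 1) = ((m + 1) * (2 * m + 1)) * 2 := by
      rw [Nat.add_sub_cancel]; ring
    rw [this, Nat.mul_div_cancel _ two_pos]
  rw [h6] at h1
  set h := Module.finrank k (Coh.HH X (CohB1.tensorPow L m) 0) with hh
  have h7 : (h : ℤ) ≤ Z.card * ((m + 1) * (2 * m + 1)) := by exact_mod_cast h1
  have h8 := (abs_le.mp h2).1
  simp only [Nat.factorial, pow_zero, one_mul, Nat.cast_zero, mul_zero, add_zero, zero_add, pow_one] at h8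
  push_cast at h8
  have hm' : (8 * Z.card + 2 * C + 1 : ℤ) ≤ m := by
    have : 8 * Z.card + 2 * C + 1 ≤ m := by omega
    exact_mod_cast this
  have hc0 : (0 : ℤ) ≤ Z.card := Int.natCast_nonneg _
  have hC0 : (0 : ℤ) ≤ C := Int.natCast_nonneg _
  have hm0 : (1 : ℤ) ≤ m := by linarith
  have h9 : (4 * (Z.card : ℤ) + 1) * (m : ℤ) ^ 2 ≤ e * (m : ℤ) ^ 2 :=
    mul_le_mul_of_nonneg_right (by omega) (sq_nonneg _)
  nlinarith [mul_le_mul_of_nonneg_right hm' (by linarith : (0 : ℤ) ≤ m)]

end Count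

end K415.MultSec
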